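import Cfsg.Agent.EqLemmas

/-!
Numbers for the normalisers of the Sylow subgroups of orders 23, 29, 31, 37, 43 in a group of the order of J4 (helper86).

For a prime `p` of the five, an option is a pair `(m, e)`: the centraliser has order `p * m`, the normaliser `p * m * e`.

* `opts`, `mem_opts` : the options allowed by the count of Sylow subgroups
* `uniq` : a second prime dividing `m` has one Sylow subgroup in the centraliser
* `solve` : the consistent choices
* `rest_check` : the last case
-/

set_option autoImplicit false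

namespace Cfsg.Agent.J4Type.LargePrimes

/-- The order of J4. -/
abbrev order4 : ℕ := 86775571046077562880

/-- The five primes. -/
def bigs : List ℕ := [23, 29, 31, 37, 43]

/-- The prime powers that may divide `m`. -/
def facs (p : ℕ) : List (ℕ × ℕ) := (11, 3) :: (bigs.filter fun q => q != p).map fun q => (q, 1)

/-- The divisors of a product of prime powers. -/
def divList : List (ℕ × ℕ) → List ℕ
  | [] => [1]
  | (q, k) :: r => (List.range (k + 1)).flatMap fun i => (divList r).map (q ^ i * ·)

theorem mem_divList : ∀ {l : List (ℕ × ℕ)}, (∀ x ∈ l, Nat.Prime x.1) → ∀ {m : ℕ},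
    m ∣ (l.map fun x => x.1 ^ x.2).prod → m ∈ divList l
  | [], _, m, h => by simpa [divList] using h
  | (q, k) :: r, hl, m, h => by
    rw [List.map_cons, List.prod_cons] at h
    obtain ⟨a, b, ha, hb, rfl⟩ := Nat.dvd_mul.1 h
    obtain ⟨i, hi, rfl⟩ := (Nat.dvd_prime_pow (hl (q, k) List.mem_cons_self)).1 ha
    exact List.mem_flatMap.2 ⟨i, List.mem_range.2 (by omega), List.mem_map.2
      ⟨b, mem_divList (fun x hx => hl x (List.mem_cons_of_mem _ hx)) hb, rfl⟩⟩

/-- The conditions on an option. -/
def okOpt (p m e : ℕ) : Bool :=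
  Nat.beq ((p - 1) % e) 0 && Nat.beq (order4 % (p * m * e)) 0 && Nat.beq (order4 / (p * m * e) % p) 1 &&
    (p != 23 || Nat.beq (e % 11) 0) && (p != 31 || Nat.beq (e % 5) 0)

/-- The options. -/
def opts : ℕ → List (ℕ × ℕ)
  | 23 => [(1, 22), (899, 11), (46139, 22), (3751, 11), (192511, 22), (173067389, 11)]
  | 29 => [(1, 28), (31, 14), (43, 2), (1333, 1), (407, 28), (12617, 14), (10879, 7), (17501, 2),
    (542531, 1), (2783, 1), (3709739, 28), (4427753, 7), (949003, 4), (1132681, 1),
    (1509863773, 28)]
  | 31 => [(1, 10), (46139, 15), (11, 15), (7337, 30), (271469, 5), (192511, 10), (2117621, 15),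
    (1412453207, 30)]
  | 37 => [(1, 12), (667, 12), (43, 2), (1247, 9), (28681, 2), (1333, 12), (889111, 12), (10879, 12),
    (86273, 9), (150887, 12), (41261, 2), (1196569, 9), (27521087, 2)]
  | 43 => [(1, 14), (29, 42), (31, 6), (1147, 42), (2783, 6), (86273, 21), (102971, 42), (1018280219, 1)]
  | _ => []

theorem opts_check : (bigs.all fun p => (divList (facs p)).all fun m => (List.range p).all fun e =>
    !okOpt p m e || Nat.beq e 0 || (opts p).contains (m, e)) = true := by
  decide +kernel

theorem mem_opts {p m e : ℕ} (hp : p ∈ bigs) (hm : m ∣ ((facs p).map fun x => x.1 ^ x.2).prod) (he : e < p)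
    (h0 : e ≠ 0) (h : okOpt p m e = true) : (m, e) ∈ opts p := by
  have hpr : ∀ x ∈ facs p, Nat.Prime x.1 := by
    intro x hx
    rcases List.mem_cons.1 hx with rfl | hx
    · norm_num
    obtain ⟨q, hq, rfl⟩ := List.mem_map.1 hx
    have hq' := (List.mem_filter.1 hq).1
    simp only [bigs, List.mem_cons, List.not_mem_nil, or_false] at hq'
    rcases hq' with rfl | rfl | rfl | rfl | rfl <;> norm_num
  have hc := opts_check
  simp only [List.all_eq_true, List.mem_range, Bool.or_eq_true, Bool.not_eq_true', Nat.beq_eq,
    List.contains_iff_mem] at hc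
  rcases hc p hp m (mem_divList hpr hm) e he with (h' | h') | h'
  · rw [h] at h'; exact absurd h' (by decide)
  · exact absurd h' h0
  · exact h'

/-- Only one divisor of `m / q` is congruent to one modulo `q`. -/
def uniq (p m q : ℕ) : Bool :=
  (divList (facs p)).all fun d => !Nat.beq (m / q % d) 0 || !Nat.beq (d % q) 1 || Nat.beq d 1

/-- The consistency of two choices: membership is symmetric, and a single Sylow subgroup gives divisibility. -/
def rel (p q : ℕ) (a b : ℕ × ℕ) : Bool :=
  (Nat.beq (a.1 % q) 0 == Nat.beq (b.1 % p) 0) && (!Nat.beq (a.1 % q) 0 ||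
    ((!uniq p a.1 q || Nat.beq (q * b.1 * b.2 % (p * a.1 * a.2)) 0) &&
      (!uniq q b.1 p || Nat.beq (p * a.1 * a.2 % (q * b.1 * b.2)) 0)))

theorem solve : ((opts 23).all fun a => (opts 29).all fun b => !rel 23 29 a b ||
    (opts 31).all fun c => !rel 23 31 a c || !rel 29 31 b c ||
    (opts 37).all fun d => !rel 23 37 a d || !rel 29 37 b d || !rel 31 37 c d ||
    (opts 43).all fun e => !rel 23 43 a e || !rel 29 43 b e || !rel 31 43 c e || !rel 37 43 d e ||
      (a == (1, 22) && b == (1, 28) && d == (1, 12) && e == (1, 14) && (c == (1, 10) || c == (11, 15)))) = true := by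
  decide +kernel

/-- The centraliser of an element of order eleven commuting with one of order 31 would have order `1023 * n`. -/
theorem rest_check : ((divList [(2, 4), (3, 0), (11, 2)]).all fun n => !Nat.beq (n % 31) 1 || Nat.beq n 1) = true := by
  decide +kernel

end Cfsg.Agent.J4Type.LargePrimes
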