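import Cfsg.Agent.Lib.J4Type.LargePrimes.Eleven
import Cfsg.Agent.Lib.J4Type.LargePrimes.Table
import Cfsg.Agent.Lib.J4Type.TwoTenMain

/-!
The normalisers of the Sylow subgroups of orders 23, 29, 31, 37, 43 in a group of Janko-four type of the order
of J4 (helper86; content of S5577, given the order).

* `not_dvd_small` : the five primes do not divide centralisers of elements of orders 2, 3, 5, 7
* `exists_opt` : the order of the centraliser and of the normaliser is one of the options
* `no_eleven` : no element of order 11 commutes with one of order 31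
* `large_primes` : the statement, from the inputs of the two-ten local and the order
-/

set_option autoImplicit false
set_option linter.unusedSectionVars false

namespace Cfsg.Agent.J4Type.LargePrimes

open Cfsg Cfsg.Agent.Golay Subgroup
open Cfsg.Agent.J4Type.Pentad (PCtx NV pr pr_surjective card_ker_pr centralizer_zpowers exists_pctx exists_q5 q_Cz
  not_25_dvd card_norm_five order_seven_local zel_long)

variable {G : Type*} [Group G] [Finite G]

theorem card_cent_conj {a b : G} (h : IsConj a b) :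
    Nat.card ↥(centralizer ({b} : Set G)) = Nat.card ↥(centralizer ({a} : Set G)) := by
  obtain ⟨g, rfl⟩ := isConj_iff.1 h
  rw [← centralizer_zpowers a, ← centralizer_zpowers (g * a * g⁻¹)]
  exact card_conj_centralizer (g := g) (MonoidHom.map_zpowers _ a)

theorem bigs_cases {p : ℕ} (hp : p ∈ bigs) : p = 23 ∨ p = 29 ∨ p = 31 ∨ p = 37 ∨ p = 43 := by
  simpa [bigs] using hp

theorem bigs_prime {p : ℕ} (hp : p ∈ bigs) : p.Prime := by
  rcases bigs_cases hp with rfl | rfl | rfl | rfl | rfl <;> norm_num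

variable {z : G} {P : Subgroup G} (C : PCtx z P)

include C in
theorem card_NV : Nat.card ↥(NV C.D) = 2 ^ 11 * 244823040 := by
  rw [← (pr C.D).ker.card_mul_index, index_ker, MonoidHom.range_eq_top.2 (pr_surjective C.D), card_top, card_ker_pr,
    natCard_M24]

include C in
theorem card_cent_t : Nat.card ↥(centralizer ({C.D.t} : Set G)) = 1816657920 := by
  have h := ((centralizer ({C.D.t} : Set G)).subgroupOf (NV C.D)).card_mul_index
  rw [← TwoTen.ncard_conj_orbit, C.D.t_orbit, Nat.card_congr (subgroupOfEquivOfLe C.cent_t).toEquiv, card_NV] at h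
  omega

include C in
/-- The five primes do not divide centralisers of elements of small prime order. -/
theorem not_dvd_small (hcls : ∀ i : G, orderOf i = 2 → IsConj z i ∨ IsConj C.D.t i) {p : ℕ} (hp : p ∈ bigs)
    {w : G} {r : ℕ} (hr : r = 2 ∨ r = 3 ∨ r = 5 ∨ r = 7) (hw : orderOf w = r) :
    ¬ p ∣ Nat.card ↥(centralizer ({w} : Set G)) := by
  haveI : Fact (Nat.Prime 5) := ⟨by norm_num⟩
  intro hd
  have hCz : ¬ p ∣ 2 ^ 21 * 10395 := by
    rcases bigs_cases hp with rfl | rfl | rfl | rfl | rfl <;> norm_num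
  rcases hr with rfl | rfl | rfl | rfl
  · rcases hcls w hw with h | h
    · rw [card_cent_conj h] at hd
      exact hCz (C.S.card_Cz ▸ hd)
    · rw [card_cent_conj h, card_cent_t C] at hd
      rcases bigs_cases hp with rfl | rfl | rfl | rfl | rfl <;> norm_num at hd
  · rw [card_cent_conj (C.three C.S.gen w C.S.gen_ord hw)] at hd
    refine hCz (C.S.card_Cz ▸ hd.trans (card_dvd_of_le fun x hx => ?_))
    exact mem_Cz_of_comm C (mem_centralizer_singleton_iff.1 hx)
  · obtain ⟨q, hq, ho⟩ := exists_q5 C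
    have honce : Once G 5 := ⟨ho ▸ orderOf_dvd_natCard q, not_25_dvd C⟩
    obtain ⟨g, hg⟩ := conj_of_card honce (U := zpowers q) (U' := zpowers w) (by rw [Nat.card_zpowers, ho])
      (by rw [Nat.card_zpowers, hw])
    rw [← centralizer_zpowers, card_conj_centralizer hg] at hd
    have h5 := hd.trans (card_dvd_of_le (centralizer_le_normalizer _))
    rw [card_norm_five C hq ho] at h5
    rcases bigs_cases hp with rfl | rfl | rfl | rfl | rfl <;> norm_num at h5
  · obtain ⟨-, -, -, h7⟩ := order_seven_local C (S := zpowers w) (by rw [Nat.card_zpowers, hw])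
    rw [← centralizer_zpowers] at hd
    have h := hd.trans (card_dvd_of_le (centralizer_le_normalizer _))
    rw [h7] at h
    rcases bigs_cases hp with rfl | rfl | rfl | rfl | rfl <;> norm_num at h

variable (hcls : ∀ i : G, orderOf i = 2 → IsConj z i ∨ IsConj C.D.t i) (hcard : Nat.card G = order4)

include hcard in
theorem once {p : ℕ} (hp : p ∈ bigs) : Once G p := by
  rcases bigs_cases hp with rfl | rfl | rfl | rfl | rfl <;> exact ⟨by rw [hcard]; norm_num, by rw [hcard]; norm_num⟩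

include hcls hcard in
/-- The order of the centraliser. -/
theorem cent_shape {p : ℕ} [Fact p.Prime] (hp : p ∈ bigs) {U : Subgroup G} (hU : Nat.card ↥U = p) :
    ∃ m, Nat.card ↥(centralizer (U : Set G)) = p * m ∧ m ∣ ((facs p).map fun x => x.1 ^ x.2).prod := by
  obtain ⟨m, hm⟩ : p ∣ Nat.card ↥(centralizer (U : Set G)) := hU ▸ card_dvd_of_le (le_centralizer_self hU)
  have hnd : ∀ r, r.Prime → (r = 2 ∨ r = 3 ∨ r = 5 ∨ r = 7) →
      Nat.Coprime (Nat.card ↥(centralizer (U : Set G))) r := by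
    intro r hr hr'
    rw [Nat.coprime_comm, hr.coprime_iff_not_dvd]
    intro hd
    haveI := Fact.mk hr
    obtain ⟨w, hw⟩ := exists_prime_orderOf_dvd_card' r hd
    rw [← orderOf_coe] at hw
    refine not_dvd_small C hcls hp hr' hw (hU ▸ card_dvd_of_le fun u hu => ?_)
    exact mem_centralizer_singleton_iff.2 (mem_centralizer_iff.1 w.2 u hu)
  have hco : Nat.Coprime (Nat.card ↥(centralizer (U : Set G))) (2 ^ 21 * 3 ^ 3 * 5 * 7) :=
    ((((hnd 2 Nat.prime_two (by norm_num)).pow_right 21).mul_right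
      ((hnd 3 Nat.prime_three (by norm_num)).pow_right 3)).mul_right (hnd 5 (by norm_num) (by norm_num))).mul_right
      (hnd 7 (by norm_num) (by norm_num))
  have hd : Nat.card ↥(centralizer (U : Set G)) ∣ p * ((facs p).map fun x => x.1 ^ x.2).prod := by
    refine hco.dvd_of_dvd_mul_left ?_
    have e : order4 = 2 ^ 21 * 3 ^ 3 * 5 * 7 * (p * ((facs p).map fun x => x.1 ^ x.2).prod) := by
      rcases bigs_cases hp with rfl | rfl | rfl | rfl | rfl <;> decide +kernel
    rw [← e, ← hcard]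
    exact card_subgroup_dvd_card _
  rw [hm] at hd
  exact ⟨m, hm, Nat.dvd_of_mul_dvd_mul_left (Fact.out : p.Prime).pos hd⟩

include hcls hcard in
/-- The possible orders. -/
theorem exists_opt {p : ℕ} [Fact p.Prime] (hp : p ∈ bigs) {U : Subgroup G} (hU : Nat.card ↥U = p)
    (hextra : ∀ e, (∀ r, r.Prime → ∀ x ∈ normalizer (U : Set G), x ∉ centralizer (U : Set G) → x ^ r = 1 → r ∣ e) →
      (p = 23 → e % 11 = 0) ∧ (p = 31 → e % 5 = 0)) :
    ∃ m e, (m, e) ∈ opts p ∧ Nat.card ↥(centralizer (U : Set G)) = p * m ∧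
      Nat.card ↥(normalizer (U : Set G)) = p * m * e := by
  obtain ⟨m, hm, hmd⟩ := cent_shape C hcls hcard hp hU
  obtain ⟨e, hN, he, hx⟩ := exists_quot hU
  obtain ⟨h23, h31⟩ := hextra e hx
  rw [hm] at hN
  obtain ⟨k, hk, hk1⟩ := count (once hcard hp) hU
  rw [hcard, hN] at hk
  have hpos : 0 < p * m * e := by rw [← hN]; exact Nat.card_pos
  have hp2 := (Fact.out : p.Prime).two_le
  have he0 : e ≠ 0 := fun h => by simp [h] at hpos
  have hep : e < p := lt_of_le_of_lt (Nat.le_of_dvd (by omega) he) (by omega)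
  refine ⟨m, e, mem_opts hp hmd hep he0 ?_, hm, hN⟩
  simp only [okOpt, Bool.and_eq_true, Bool.or_eq_true, Nat.beq_eq, bne_iff_ne]
  refine ⟨⟨⟨⟨Nat.mod_eq_zero_of_dvd he, by rw [hk, Nat.mul_mod_left]⟩, by rw [hk, Nat.mul_div_cancel _ hpos, hk1]⟩,
    ?_⟩, ?_⟩
  · by_cases h : p = 23
    · exact Or.inr (h23 h)
    · exact Or.inl h
  · by_cases h : p = 31
    · exact Or.inr (h31 h)
    · exact Or.inl h

include hcard in
/-- Two choices are consistent. -/
theorem rel_of {p q : ℕ} [Fact p.Prime] [Fact q.Prime] (hp : p ∈ bigs) (hq : q ∈ bigs) (hpq : p ≠ q)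
    {U W : Subgroup G} (hU : Nat.card ↥U = p) (hW : Nat.card ↥W = q) {a b : ℕ × ℕ}
    (hUC : Nat.card ↥(centralizer (U : Set G)) = p * a.1)
    (hUN : Nat.card ↥(normalizer (U : Set G)) = p * a.1 * a.2)
    (hWC : Nat.card ↥(centralizer (W : Set G)) = q * b.1)
    (hWN : Nat.card ↥(normalizer (W : Set G)) = q * b.1 * b.2)
    (hma : a.1 ∣ ((facs p).map fun x => x.1 ^ x.2).prod) (hmb : b.1 ∣ ((facs q).map fun x => x.1 ^ x.2).prod) :
    rel p q a b = true := by
  have hsym : ∀ {p q : ℕ} [Fact p.Prime] [Fact q.Prime], q ∈ bigs → p ≠ q → ∀ {U W : Subgroup G},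
      Nat.card ↥U = p → Nat.card ↥W = q → ∀ {m n : ℕ}, Nat.card ↥(centralizer (U : Set G)) = p * m →
      Nat.card ↥(centralizer (W : Set G)) = q * n → q ∣ m → p ∣ n := by
    intro p q _ _ hq hpq U W hU hW m n hUC hWC hd
    have h := dvd_cent_symm (once hcard hq) hU hW (hUC ▸ Dvd.dvd.mul_left hd p)
    rw [hWC] at h
    exact ((Fact.out : p.Prime).dvd_mul.1 h).resolve_left
      fun h' => hpq ((Nat.prime_dvd_prime_iff_eq Fact.out Fact.out).1 h')
  have hiff : q ∣ a.1 ↔ p ∣ b.1 :=
    ⟨hsym hq hpq hU hW hUC hWC, hsym hp (Ne.symm hpq) hW hU hWC hUC⟩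
  have huq : ∀ {p q : ℕ}, p ∈ bigs → ∀ {m : ℕ}, m ∣ ((facs p).map fun x => x.1 ^ x.2).prod → q ∣ m →
      uniq p m q = true → ∀ d, d ∣ m / q → d % q = 1 → d = 1 := by
    intro p q hp m hm hq hu d hd hd1
    simp only [uniq, List.all_eq_true, Bool.or_eq_true, Bool.not_eq_true', Nat.beq_eq] at hu
    have hpr : ∀ x ∈ facs p, Nat.Prime x.1 := by
      intro x hx
      rcases List.mem_cons.1 hx with rfl | hx
      · norm_num
      obtain ⟨r, hr, rfl⟩ := List.mem_map.1 hx
      exact bigs_prime (List.mem_filter.1 hr).1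
    have hmem := mem_divList hpr ((hd.trans (Nat.div_dvd_of_dvd hq)).trans hm)
    rcases hu d hmem with (h | h) | h
    · rw [Nat.mod_eq_zero_of_dvd hd] at h; exact absurd h (by decide)
    · rw [hd1, Nat.beq_refl] at h; exact absurd h (by decide)
    · exact h
  simp only [rel, Bool.and_eq_true, Bool.or_eq_true, Bool.not_eq_true', beq_iff_eq]
  refine ⟨Bool.eq_iff_iff.2 (by simp only [Nat.beq_eq, ← Nat.dvd_iff_mod_eq_zero]; exact hiff), ?_⟩
  by_cases hd : q ∣ a.1
  swap
  · refine Or.inl ?_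
    rw [Bool.eq_false_iff]
    simpa only [ne_eq, Nat.beq_eq, ← Nat.dvd_iff_mod_eq_zero] using hd
  refine Or.inr ⟨?_, ?_⟩
  · by_cases hu : uniq p a.1 q = true
    · refine Or.inr (Nat.beq_eq.symm ▸ Nat.mod_eq_zero_of_dvd ?_)
      have h := normalizer_dvd (once hcard hq) hpq hU hW hUC hd (huq hp hma hd hu)
      rwa [hUN, hWN] at h
    · exact Or.inl (by simpa using hu)
  · by_cases hu : uniq q b.1 p = true
    · refine Or.inr (Nat.beq_eq.symm ▸ Nat.mod_eq_zero_of_dvd ?_)
      have h := normalizer_dvd (once hcard hp) (Ne.symm hpq) hW hU hWC (hiff.1 hd) (huq hq hmb (hiff.1 hd) hu)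
      rwa [hUN, hWN] at h
    · exact Or.inl (by simpa using hu)

include hcls hcard in
/-- No element of order 11 commutes with one of order 31, given the other four primes. -/
theorem no_eleven (hothers : ∀ q ∈ bigs, q ≠ 31 → ∀ U : Subgroup G, Nat.card ↥U = q →
      Nat.card ↥(centralizer (U : Set G)) = q)
    {U : Subgroup G} (hU : Nat.card ↥U = 31) (hC : Nat.card ↥(centralizer (U : Set G)) = 31 * 11)
    (hN : Nat.card ↥(normalizer (U : Set G)) = 31 * 11 * 15) : False := by
  classical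
  haveI : Fact (Nat.Prime 31) := ⟨by norm_num⟩
  haveI : Fact (Nat.Prime 11) := ⟨by norm_num⟩
  haveI : Fact (Nat.Prime 3) := ⟨by norm_num⟩
  haveI : Fact (Nat.Prime 2) := ⟨Nat.prime_two⟩
  obtain ⟨Q, hQ, hle⟩ := exists_inside (q := 11) (U := U) (hC ▸ Dvd.intro_left _ rfl)
  have hNQ := normalizer_le (U₀ := U) (q := 11) (by rw [hC]; norm_num) (by norm_num) hU hQ hle hC (dvd_refl 11)
    (fun d hd _ => Nat.dvd_one.1 (by simpa using hd))
  obtain ⟨r, hr⟩ := exists_prime_orderOf_dvd_card' (G := ↥(normalizer (U : Set G))) 3 (by rw [hN]; norm_num)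
  rw [← orderOf_coe] at hr
  -- the element of order three centralises the one of order eleven
  obtain ⟨eQ, -, heQ, hxQ⟩ := exists_quot hQ
  have hrQ : (r : G) ∈ centralizer (Q : Set G) := by
    by_contra hn
    have h3 := (hxQ 3 (by norm_num) r (hNQ r.2) hn (hr ▸ pow_orderOf_eq_one (r : G))).trans heQ
    norm_num at h3
  obtain ⟨y₀, hy₀⟩ := exists_prime_orderOf_dvd_card' (G := ↥Q) 11 (by rw [hQ])
  rw [← orderOf_coe] at hy₀
  -- move it to the generator of `P`
  obtain ⟨g, hg⟩ := isConj_iff.1 (C.three (r : G) C.S.gen hr C.S.gen_ord)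
  set φ := (MulAut.conj g).toMonoidHom with hφ
  have hinj : Function.Injective φ := (MulAut.conj g).injective
  have hφr : φ r = C.S.gen := hg
  set y := φ y₀ with hydef
  set W := U.map φ with hWdef
  have hyo : orderOf y = 11 := (orderOf_injective φ hinj _).trans hy₀
  have hW : Nat.card ↥W = 31 := by rw [hWdef, card_map_of_injective hinj, hU]
  have hWN : Nat.card ↥(normalizer (W : Set G)) = 31 * 11 * 15 := (card_conj_normalizer hWdef.symm).trans hN
  have hyg : y * C.S.gen = C.S.gen * y := by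
    rw [← hφr, hydef, ← map_mul, ← map_mul, mem_centralizer_iff.1 hrQ _ y₀.2]
  set Y := centralizer ({y} : Set G) with hYdef
  have hWY : W ≤ Y := by
    rintro _ ⟨u, hu, rfl⟩
    refine mem_centralizer_singleton_iff.2 ?_
    rw [hydef, ← map_mul, ← map_mul, mem_centralizer_iff.1 (hle y₀.2) u hu]
  have hgY : C.S.gen ∈ Y := mem_centralizer_singleton_iff.2 hyg.symm
  have hgN : C.S.gen ∈ normalizer (W : Set G) := by
    rw [hWdef, ← map_equiv_normalizer_eq U (MulAut.conj g), ← hφr]
    exact ⟨r, r.2, rfl⟩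
  have hyW : y ∈ normalizer (W : Set G) := centralizer_le_normalizer _ (mem_centralizer_iff.2 fun w hw =>
    mem_centralizer_singleton_iff.1 (hWY hw))
  have hzY : z ∈ Y := mem_centralizer_singleton_iff.2 (mem_centralizer_singleton_iff.1 (mem_Cz_of_comm C hyg)).symm
  -- small primes
  have hno : ∀ s, s = 5 ∨ s = 7 → ¬ s ∣ Nat.card ↥Y := by
    intro s hs hd
    haveI : Fact s.Prime := ⟨by rcases hs with rfl | rfl <;> norm_num⟩
    obtain ⟨w, hw⟩ := exists_prime_orderOf_dvd_card' s hd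
    rw [← orderOf_coe] at hw
    have hyw : y ∈ centralizer ({(w : G)} : Set G) :=
      mem_centralizer_singleton_iff.2 (mem_centralizer_singleton_iff.1 w.2).symm
    have h11 : 11 ∣ Nat.card ↥(normalizer (zpowers (w : G) : Set G)) := by
      refine dvd_trans ?_ (card_dvd_of_le (centralizer_le_normalizer _))
      rw [centralizer_zpowers, ← hyo, ← orderOf_mk y hyw]
      exact orderOf_dvd_natCard _
    rcases hs with rfl | rfl
    · obtain ⟨q, hq, ho⟩ := exists_q5 C
      have honce : Once G 5 := ⟨ho ▸ orderOf_dvd_natCard q, not_25_dvd C⟩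
      obtain ⟨g', hg'⟩ := conj_of_card honce (U := zpowers q) (U' := zpowers (w : G)) (by rw [Nat.card_zpowers, ho])
        (by rw [Nat.card_zpowers, hw])
      rw [card_conj_normalizer hg', card_norm_five C hq ho] at h11
      norm_num at h11
    · obtain ⟨-, -, -, h7⟩ := order_seven_local C (S := zpowers (w : G)) (by rw [Nat.card_zpowers, hw])
      rw [h7] at h11
      norm_num at h11
  have hbig : ∀ q, q = 23 ∨ q = 29 ∨ q = 37 ∨ q = 43 → Nat.Coprime (Nat.card ↥Y) q := by
    intro q hq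
    have hq' : q ∈ bigs ∧ q ≠ 31 := by rcases hq with rfl | rfl | rfl | rfl <;> decide
    rw [Nat.coprime_comm, (bigs_prime hq'.1).coprime_iff_not_dvd]
    intro hd
    haveI := Fact.mk (bigs_prime hq'.1)
    obtain ⟨w, hw⟩ := exists_prime_orderOf_dvd_card' q hd
    rw [← orderOf_coe] at hw
    have hc := hothers q hq'.1 hq'.2 (zpowers (w : G)) (by rw [Nat.card_zpowers, hw])
    have h11 : 11 ∣ q := by
      rw [← hc, centralizer_zpowers, ← hyo, ← orderOf_mk y (show y ∈ centralizer ({(w : G)} : Set G) from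
        mem_centralizer_singleton_iff.2 (mem_centralizer_singleton_iff.1 w.2).symm)]
      exact orderOf_dvd_natCard _
    rcases hq with rfl | rfl | rfl | rfl <;> norm_num at h11
  -- the order of the normaliser inside
  have honceY : Once ↥Y 31 := ⟨hW ▸ card_dvd_of_le hWY,
    fun h => (once hcard (show 31 ∈ bigs by decide)).2 (h.trans (card_subgroup_dvd_card Y))⟩
  have hW' : Nat.card ↥(W.subgroupOf Y) = 31 := by rw [Nat.card_congr (subgroupOfEquivOfLe hWY).toEquiv, hW]
  obtain ⟨k, hk, hk1⟩ := count honceY hW'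
  set NY := normalizer (W.subgroupOf Y : Set ↥Y) with hNY
  have hmap : NY.map Y.subtype ≤ normalizer (W : Set G) := by
    have h := le_normalizer_map Y.subtype (H := W.subgroupOf Y)
    rwa [subgroupOf_map_subtype, inf_eq_left.2 hWY] at h
  have hd1 : Nat.card ↥NY ∣ 31 * 11 * 15 := by
    rw [← hWN, ← card_map_of_injective Y.subtype_injective (K := NY)]
    exact card_dvd_of_le hmap
  have hmem : ∀ a : G, a ∈ normalizer (W : Set G) → ∀ h : a ∈ Y, (⟨a, h⟩ : ↥Y) ∈ NY := fun a ha h =>
    mem_normalizer_iff.2 fun b => by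
      simp only [mem_subgroupOf, Subgroup.coe_mul, Subgroup.coe_inv]
      exact mem_normalizer_iff.1 ha b
  have hyY : y ∈ Y := mem_centralizer_singleton_iff.2 rfl
  have hd3 : 31 * (11 * 3) ∣ Nat.card ↥NY := by
    refine Nat.Coprime.mul_dvd_of_dvd_of_dvd (by norm_num) (hW' ▸ card_dvd_of_le le_normalizer)
      (Nat.Coprime.mul_dvd_of_dvd_of_dvd (by norm_num) ?_ ?_)
    · rw [← hyo, show orderOf y = orderOf (⟨⟨y, hyY⟩, hmem y hyW hyY⟩ : ↥NY) by
        rw [Subgroup.orderOf_mk, Subgroup.orderOf_mk]]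
      exact orderOf_dvd_natCard _
    · rw [← C.S.gen_ord, show orderOf C.S.gen = orderOf (⟨⟨C.S.gen, hgY⟩, hmem _ hgN hgY⟩ : ↥NY) by
        rw [Subgroup.orderOf_mk, Subgroup.orderOf_mk]]
      exact orderOf_dvd_natCard _
  have h5 : ¬ 5 ∣ Nat.card ↥NY := fun h => hno 5 (Or.inl rfl) (h.trans (card_subgroup_dvd_card NY))
  have hNY' : Nat.card ↥NY = 1023 := by
    obtain ⟨j, hj⟩ := hd3
    rw [hj] at hd1 h5
    have hj5 : j ∣ 5 := Nat.dvd_of_mul_dvd_mul_left (by norm_num : 0 < 31 * (11 * 3)) (by simpa using hd1)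
    rcases (Nat.dvd_prime (by norm_num)).1 hj5 with rfl | rfl
    · exact hj
    · exact absurd (Dvd.intro_left _ rfl) h5
  rw [hNY'] at hk
  -- the 2- and 3-parts and the rest
  have hco : Nat.Coprime (Nat.card ↥Y) (5 * 7 * 23 * 29 * 37 * 43) := by
    have h5' := (Nat.coprime_comm.1 ((show Nat.Prime 5 by norm_num).coprime_iff_not_dvd.2 (hno 5 (Or.inl rfl))))
    have h7' := (Nat.coprime_comm.1 ((show Nat.Prime 7 by norm_num).coprime_iff_not_dvd.2 (hno 7 (Or.inr rfl))))
    exact ((((h5'.mul_right h7').mul_right (hbig 23 (by norm_num))).mul_right (hbig 29 (by norm_num))).mul_right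
      (hbig 37 (by norm_num))).mul_right (hbig 43 (by norm_num))
  have hdY : Nat.card ↥Y ∣ 2 ^ 21 * 3 ^ 3 * (11 ^ 3 * 31) := by
    refine hco.dvd_of_dvd_mul_left ?_
    rw [show 5 * 7 * 23 * 29 * 37 * 43 * (2 ^ 21 * 3 ^ 3 * (11 ^ 3 * 31)) = order4 by norm_num, ← hcard]
    exact card_subgroup_dvd_card _
  obtain ⟨ab, c, hab, hc, hY⟩ := Nat.dvd_mul.1 hdY
  obtain ⟨a, b, ha, hb, rfl⟩ := Nat.dvd_mul.1 hab
  have ha4 : a ∣ 2 ^ 4 := by
    obtain ⟨i, -, rfl⟩ := (Nat.dvd_prime_pow Nat.prime_two).1 ha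
    obtain ⟨T, hT⟩ := Sylow.exists_subgroup_card_pow_prime (G := ↥Y) 2
      (show 2 ^ i ∣ Nat.card ↥Y from hY ▸ (dvd_mul_right _ b).trans (dvd_mul_right _ c))
    have h := card_two_le C hcls ((IsPGroup.of_card hT).map Y.subtype) hyo (by
      rintro _ ⟨t, -, rfl⟩
      exact mem_centralizer_singleton_iff.1 t.2)
    rw [card_map_of_injective Y.subtype_injective, hT] at h
    exact pow_dvd_pow 2 ((Nat.pow_le_pow_iff_right (by norm_num : 1 < 2)).1 (h.trans (by norm_num : 16 ≤ 2 ^ 4)))
  have hb3 : b ∣ 3 := by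
    obtain ⟨i, -, rfl⟩ := (Nat.dvd_prime_pow Nat.prime_three).1 hb
    rcases Nat.lt_or_ge i 2 with h | h
    · exact (pow_dvd_pow 3 (show i ≤ 1 by omega)).trans (by norm_num)
    exfalso
    obtain ⟨R, hR⟩ := Sylow.exists_subgroup_card_pow_prime (G := ↥Y) 3
      (show 3 ^ 2 ∣ Nat.card ↥Y from hY ▸ ((pow_dvd_pow 3 h).trans (dvd_mul_left _ a)).trans (dvd_mul_right _ c))
    refine not_nine C (R := R.map Y.subtype) (by rw [card_map_of_injective Y.subtype_injective, hR]; norm_num) hyo ?_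
    rintro _ ⟨t, -, rfl⟩
    exact mem_centralizer_singleton_iff.1 t.2
  have hk' : k ∣ 2 ^ 4 * 11 ^ 2 := by
    have h : k * 1023 ∣ 2 ^ 4 * 3 * (11 ^ 3 * 31) := by
      rw [← hk, ← hY]
      exact Nat.mul_dvd_mul (Nat.mul_dvd_mul ha4 hb3) hc
    refine Nat.dvd_of_mul_dvd_mul_right (by norm_num : 0 < 1023) (h.trans (dvd_of_eq (by norm_num)))
  have hk0 : k = 1 := by
    have h := rest_check
    simp only [List.all_eq_true, Bool.or_eq_true, Bool.not_eq_true', Nat.beq_eq] at h
    rcases h k (mem_divList (by simp; norm_num) (by simpa using hk')) with h' | h'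
    · rw [hk1, Nat.beq_refl] at h'; exact absurd h' (by decide)
    · exact h'
  rw [hk0] at hk
  have h2 : 2 ∣ Nat.card ↥Y := by
    rw [← C.S.orderOf_z, ← orderOf_mk z hzY]
    exact orderOf_dvd_natCard _
  rw [hk] at h2
  norm_num at h2

/-- The statement, from the inputs and the order. -/
theorem large_primes (h : TwoTen.Inputs z P)
    (hsyl : ∀ R : Sylow 3 G, (R : Subgroup G) ≤ centralizer ({z} : Set G) →
      IsExtraspecial 3 ↥(R : Subgroup G) ∧ Nat.card ↥(R : Subgroup G) = 27)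
    (hcard : Nat.card G = order4) :
    (∀ U : Sylow 23 G, centralizer ((U : Subgroup G) : Set G) = (U : Subgroup G) ∧
      Nat.card ↥(normalizer ((U : Subgroup G) : Set G)) = 23 * 22) ∧
    (∀ U : Sylow 29 G, centralizer ((U : Subgroup G) : Set G) = (U : Subgroup G) ∧
      Nat.card ↥(normalizer ((U : Subgroup G) : Set G)) = 29 * 28) ∧
    (∀ U : Sylow 31 G, centralizer ((U : Subgroup G) : Set G) = (U : Subgroup G) ∧
      Nat.card ↥(normalizer ((U : Subgroup G) : Set G)) = 31 * 10) ∧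
    (∀ U : Sylow 37 G, centralizer ((U : Subgroup G) : Set G) = (U : Subgroup G) ∧
      Nat.card ↥(normalizer ((U : Subgroup G) : Set G)) = 37 * 12) ∧
    (∀ U : Sylow 43 G, centralizer ((U : Subgroup G) : Set G) = (U : Subgroup G) ∧
      Nat.card ↥(normalizer ((U : Subgroup G) : Set G)) = 43 * 14) := by
  classical
  obtain ⟨C⟩ := exists_pctx h.typeWith h.uniq h.split h.orb h.three h.local3.2.2.2.2 hsyl
  have hcls : ∀ i : G, orderOf i = 2 → IsConj z i ∨ IsConj C.D.t i := by
    obtain ⟨σ, hσ⟩ := zel_long C.M 0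
    have hzs : IsConj z C.D.s := by
      rw [C.zel_z] at hσ
      exact (isConj_iff.2 ⟨C.D.el σ, hσ⟩ : IsConj C.D.s z).symm
    exact fun i hi => SecondClass.isConj_or h.typeWith C.D hzs C.not_conj_t h.uniq h.three h.local3 hi
  haveI f23 : Fact (Nat.Prime 23) := ⟨by norm_num⟩
  haveI f29 : Fact (Nat.Prime 29) := ⟨by norm_num⟩
  haveI f31 : Fact (Nat.Prime 31) := ⟨by norm_num⟩
  haveI f37 : Fact (Nat.Prime 37) := ⟨by norm_num⟩
  haveI f43 : Fact (Nat.Prime 43) := ⟨by norm_num⟩
  have hgen : ∀ {p : ℕ}, Fact p.Prime → p ∈ bigs → ∃ U : Subgroup G, Nat.card ↥U = p := by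
    intro p hpf hp
    haveI := hpf
    exact ⟨_, card_sylow (once hcard hp) (default : Sylow p G)⟩
  obtain ⟨U23, hU23⟩ := hgen f23 (by decide)
  obtain ⟨U29, hU29⟩ := hgen f29 (by decide)
  obtain ⟨U31, hU31⟩ := hgen f31 (by decide)
  obtain ⟨U37, hU37⟩ := hgen f37 (by decide)
  obtain ⟨U43, hU43⟩ := hgen f43 (by decide)
  have hB23 : ∀ e, (∀ r, r.Prime → ∀ x ∈ normalizer (U23 : Set G), x ∉ centralizer (U23 : Set G) → x ^ r = 1 →
      r ∣ e) → e % 11 = 0 := by
    intro e hx
    refine Nat.mod_eq_zero_of_dvd (dvd_quot_of_subgroup (once hcard (by decide)) (B := C.D.K) ?_ (by norm_num)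
      (by norm_num) ?_ ?_ hU23 (hx 11 (by norm_num)))
    · rw [Once, Nat.card_congr C.D.e.toEquiv, natCard_M24]; norm_num
    · intro V hV
      obtain ⟨v, hv⟩ := exists_prime_orderOf_dvd_card' (G := ↥V) 23 (by rw [hV])
      rw [← orderOf_coe] at hv
      have hVv : zpowers (v : ↥C.D.K) = V :=
        eq_of_le_of_card_ge (zpowers_le.2 v.2) (by rw [Nat.card_zpowers, hv, hV])
      refine le_antisymm ?_ (hV ▸ card_le_of_le (le_centralizer_self hV))
      rw [← hVv, centralizer_zpowers,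
        ← cent_twentythree (σ := C.D.e (v : ↥C.D.K)) ((orderOf_injective C.D.e.toMonoidHom C.D.e.injective _).trans hv)]
      refine Nat.card_le_card_of_injective (fun x => ⟨C.D.e x.1, mem_centralizer_singleton_iff.2 ?_⟩) ?_
      · rw [← map_mul, ← map_mul, mem_centralizer_singleton_iff.1 x.2]
      · exact fun a b hab => Subtype.ext (C.D.e.injective (congrArg Subtype.val hab))
    · rw [Nat.card_congr C.D.e.toEquiv, natCard_M24]
      have : ∀ e < 23, e ∣ 22 → 244823040 % (23 * e) = 0 → 244823040 / (23 * e) % 23 = 1 → 11 ∣ e := by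
        decide +kernel
      exact fun e he => this e (Nat.lt_succ_of_le (Nat.le_of_dvd (by norm_num) he)) he
  have hB31 : ∀ e, (∀ r, r.Prime → ∀ x ∈ normalizer (U31 : Set G), x ∉ centralizer (U31 : Set G) → x ^ r = 1 →
      r ∣ e) → e % 5 = 0 := by
    intro e hx
    obtain ⟨Cx, hS⟩ := TwoTen.exists_ctx h
    obtain ⟨B, -, -, -, ⟨eB⟩⟩ := Cx.exists_complement hS.2
    have hcB : Nat.card ↥B = 9999360 := (Nat.card_congr eB.toEquiv).trans TwoTen.natCard_SL5
    refine Nat.mod_eq_zero_of_dvd (dvd_quot_of_subgroup (once hcard (by decide)) (B := B) ?_ (by norm_num)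
      (by norm_num) ?_ ?_ hU31 (hx 5 (by norm_num)))
    · rw [Once, hcB]; norm_num
    · intro V hV
      obtain ⟨m, hm, hmd⟩ := cent_shape C hcls hcard (p := 31) (by decide)
        (U := V.map B.subtype) (by rw [card_map_of_injective B.subtype_injective, hV])
      have h1 : Nat.card ↥(centralizer (V : Set ↥B)) ∣ 31 * ((facs 31).map fun x => x.1 ^ x.2).prod := by
        refine dvd_trans ?_ (Nat.mul_dvd_mul_left 31 hmd)
        rw [← hm, ← card_map_of_injective B.subtype_injective (K := centralizer (V : Set ↥B))]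
        refine card_dvd_of_le ?_
        rintro _ ⟨x, hxV, rfl⟩
        refine mem_centralizer_iff.2 ?_
        rintro _ ⟨w, hw, rfl⟩
        rw [← map_mul, ← map_mul, mem_centralizer_iff.1 hxV w hw]
      have h2 := Nat.dvd_gcd h1 (hcB ▸ card_subgroup_dvd_card (centralizer (V : Set ↥B)))
      rw [show Nat.gcd (31 * ((facs 31).map fun x => x.1 ^ x.2).prod) 9999360 = 31 by decide +kernel] at h2
      exact Nat.dvd_antisymm h2 (hV ▸ card_dvd_of_le (le_centralizer_self hV))
    · rw [hcB]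
      have : ∀ e < 31, e ∣ 30 → 9999360 % (31 * e) = 0 → 9999360 / (31 * e) % 31 = 1 → 5 ∣ e := by
        decide +kernel
      exact fun e he => this e (Nat.lt_succ_of_le (Nat.le_of_dvd (by norm_num) he)) he
  obtain ⟨m1, e1, o1, c1, n1⟩ := exists_opt C hcls hcard (p := 23) (by decide) hU23
    fun e hx => ⟨fun _ => hB23 e hx, fun h => absurd h (by norm_num)⟩
  obtain ⟨m2, e2, o2, c2, n2⟩ := exists_opt C hcls hcard (p := 29) (by decide) hU29
    fun e _ => ⟨fun h => absurd h (by norm_num), fun h => absurd h (by norm_num)⟩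
  obtain ⟨m3, e3, o3, c3, n3⟩ := exists_opt C hcls hcard (p := 31) (by decide) hU31
    fun e hx => ⟨fun h => absurd h (by norm_num), fun _ => hB31 e hx⟩
  obtain ⟨m4, e4, o4, c4, n4⟩ := exists_opt C hcls hcard (p := 37) (by decide) hU37
    fun e _ => ⟨fun h => absurd h (by norm_num), fun h => absurd h (by norm_num)⟩
  obtain ⟨m5, e5, o5, c5, n5⟩ := exists_opt C hcls hcard (p := 43) (by decide) hU43
    fun e _ => ⟨fun h => absurd h (by norm_num), fun h => absurd h (by norm_num)⟩
  have shape : ∀ {p : ℕ} [Fact p.Prime], p ∈ bigs → ∀ {U : Subgroup G} {m : ℕ}, Nat.card ↥U = p →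
      Nat.card ↥(centralizer (U : Set G)) = p * m → m ∣ ((facs p).map fun x => x.1 ^ x.2).prod := by
    intro p _ hp U m hU hc
    obtain ⟨m', hm', hd⟩ := cent_shape C hcls hcard hp hU
    rw [hc] at hm'
    rwa [Nat.eq_of_mul_eq_mul_left (Fact.out : p.Prime).pos hm']
  have hs := solve
  simp only [List.all_eq_true, Bool.or_eq_true, Bool.not_eq_true', Bool.and_eq_true, beq_iff_eq] at hs
  have R : ∀ {p q : ℕ} [Fact p.Prime] [Fact q.Prime], p ∈ bigs → q ∈ bigs → p ≠ q →
      ∀ {U W : Subgroup G} {m e n f : ℕ}, Nat.card ↥U = p → Nat.card ↥W = q →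
      Nat.card ↥(centralizer (U : Set G)) = p * m → Nat.card ↥(normalizer (U : Set G)) = p * m * e →
      Nat.card ↥(centralizer (W : Set G)) = q * n → Nat.card ↥(normalizer (W : Set G)) = q * n * f →
      ¬ rel p q (m, e) (n, f) = false := by
    intro p q _ _ hp hq hne U W m e n f hU hW a b c d
    rw [rel_of hcard hp hq hne hU hW (a := (m, e)) (b := (n, f)) a b c d (shape hp hU a) (shape hq hW c)]
    decide
  have s1 := hs _ o1 _ o2
  have s2 := (s1.resolve_left (R (by decide) (by decide) (by norm_num) hU23 hU29 c1 n1 c2 n2)) _ o3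
  rcases s2 with (h' | h') | s2
  · exact absurd h' (R (by decide) (by decide) (by norm_num) hU23 hU31 c1 n1 c3 n3)
  · exact absurd h' (R (by decide) (by decide) (by norm_num) hU29 hU31 c2 n2 c3 n3)
  rcases s2 _ o4 with ((h' | h') | h') | s3
  · exact absurd h' (R (by decide) (by decide) (by norm_num) hU23 hU37 c1 n1 c4 n4)
  · exact absurd h' (R (by decide) (by decide) (by norm_num) hU29 hU37 c2 n2 c4 n4)
  · exact absurd h' (R (by decide) (by decide) (by norm_num) hU31 hU37 c3 n3 c4 n4)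
  rcases s3 _ o5 with (((h' | h') | h') | h') | s4
  · exact absurd h' (R (by decide) (by decide) (by norm_num) hU23 hU43 c1 n1 c5 n5)
  · exact absurd h' (R (by decide) (by decide) (by norm_num) hU29 hU43 c2 n2 c5 n5)
  · exact absurd h' (R (by decide) (by decide) (by norm_num) hU31 hU43 c3 n3 c5 n5)
  · exact absurd h' (R (by decide) (by decide) (by norm_num) hU37 hU43 c4 n4 c5 n5)
  simp only [Prod.mk.injEq] at s4
  obtain ⟨⟨⟨⟨⟨rfl, rfl⟩, rfl, rfl⟩, rfl, rfl⟩, rfl, rfl⟩, h31⟩ := s4
  have transfer : ∀ {p e : ℕ} [Fact p.Prime], p ∈ bigs → ∀ {U : Subgroup G}, Nat.card ↥U = p →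
      Nat.card ↥(centralizer (U : Set G)) = p * 1 → Nat.card ↥(normalizer (U : Set G)) = p * 1 * e →
      ∀ V : Subgroup G, Nat.card ↥V = p →
        Nat.card ↥(centralizer (V : Set G)) = p ∧ Nat.card ↥(normalizer (V : Set G)) = p * e := by
    intro p e _ hp U hU hc hn V hV
    obtain ⟨g, hg⟩ := conj_of_card (once hcard hp) hU hV
    exact ⟨by rw [card_conj_centralizer hg, hc, mul_one], by rw [card_conj_normalizer hg, hn, mul_one]⟩
  have t1 := transfer (p := 23) (by decide) hU23 c1 n1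
  have t2 := transfer (p := 29) (by decide) hU29 c2 n2
  have t4 := transfer (p := 37) (by decide) hU37 c4 n4
  have t5 := transfer (p := 43) (by decide) hU43 c5 n5
  rcases h31 with ⟨rfl, rfl⟩ | ⟨rfl, rfl⟩
  swap
  · exfalso
    refine no_eleven C hcls hcard (fun q hq h31 V hV => ?_) hU31 c3 n3
    rcases bigs_cases hq with rfl | rfl | rfl | rfl | rfl
    exacts [(t1 V hV).1, (t2 V hV).1, absurd rfl h31, (t4 V hV).1, (t5 V hV).1]
  have t3 := transfer (p := 31) (by decide) hU31 c3 n3
  have fin : ∀ {p e : ℕ} [Fact p.Prime], p ∈ bigs →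
      (∀ V : Subgroup G, Nat.card ↥V = p →
        Nat.card ↥(centralizer (V : Set G)) = p ∧ Nat.card ↥(normalizer (V : Set G)) = p * e) →
      ∀ V : Sylow p G, centralizer ((V : Subgroup G) : Set G) = (V : Subgroup G) ∧
        Nat.card ↥(normalizer ((V : Subgroup G) : Set G)) = p * e := by
    intro p e _ hp ht V
    have hV := card_sylow (once hcard hp) V
    obtain ⟨h1, h2⟩ := ht _ hV
    exact ⟨(eq_of_le_of_card_ge (le_centralizer_self hV) (h1.trans hV.symm).le).symm, h2⟩
  exact ⟨fin (by decide) t1, fin (by decide) t2, fin (by decide) t3, fin (by decide) t4, fin (by decide) t5⟩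

end Cfsg.Agent.J4Type.LargePrimes
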