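import Cfsg.Agent.EqLemmas

/-!
A Sylow subgroup of prime order: counting, the quotient of the normaliser by the centraliser, and two such
subgroups commuting (helper86).

* `count`, `exists_quot` : the number of conjugates and the order of `N(U)`
* `dvd_quot_of_subgroup` : a prime in the quotient, from a subgroup
* `dvd_cent_symm`, `normalizer_le`, `normalizer_dvd` : two commuting subgroups
-/

set_option autoImplicit false
set_option linter.unusedSectionVars false

open scoped Pointwise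

namespace Cfsg.Agent.J4Type.LargePrimes

open Subgroup

variable {G : Type*} [Group G] [Finite G] {p : ℕ} [hpp : Fact p.Prime]

/-- `p` divides the order, its square does not. -/
def Once (G : Type*) [Group G] (p : ℕ) : Prop := p ∣ Nat.card G ∧ ¬ p ^ 2 ∣ Nat.card G

omit hpp in
theorem factorization_eq (hp : p.Prime) (h : Once G p) : (Nat.card G).factorization p = 1 := by
  have hne : Nat.card G ≠ 0 := Nat.card_pos.ne'
  refine le_antisymm (not_lt.1 fun hlt => h.2 ?_) ((hp.dvd_iff_one_le_factorization hne).1 h.1)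
  exact (hp.pow_dvd_iff_le_factorization (k := 2) hne).2 hlt

theorem exists_sylow (h : Once G p) {U : Subgroup G} (hU : Nat.card ↥U = p) :
    ∃ T : Sylow p G, (T : Subgroup G) = U :=
  ⟨Sylow.ofCard U (by rw [factorization_eq hpp.out h, pow_one, hU]), rfl⟩

theorem card_sylow (h : Once G p) (T : Sylow p G) : Nat.card ↥(T : Subgroup G) = p := by
  rw [T.card_eq_multiplicity, factorization_eq hpp.out h, pow_one]

theorem conj_of_card (h : Once G p) {U U' : Subgroup G} (hU : Nat.card ↥U = p) (hU' : Nat.card ↥U' = p) :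
    ∃ g : G, U.map (MulAut.conj g).toMonoidHom = U' := by
  obtain ⟨T, rfl⟩ := exists_sylow h hU
  obtain ⟨T', rfl⟩ := exists_sylow h hU'
  obtain ⟨g, hg⟩ := MulAction.exists_smul_eq G T T'
  refine ⟨g, ?_⟩
  rw [← hg, Sylow.coe_subgroup_smul]
  rfl

theorem count (h : Once G p) {U : Subgroup G} (hU : Nat.card ↥U = p) :
    ∃ k, Nat.card G = k * Nat.card ↥(normalizer (U : Set G)) ∧ k % p = 1 := by
  obtain ⟨T, rfl⟩ := exists_sylow h hU
  refine ⟨Nat.card (Sylow p G), ?_, ?_⟩
  · rw [T.card_eq_index_normalizer]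
    exact (index_mul_card _).symm
  · have := card_sylow_modEq_one p G
    unfold Nat.ModEq at this
    rwa [Nat.one_mod_eq_one.2 hpp.out.ne_one] at this

theorem le_centralizer_self {U : Subgroup G} (hU : Nat.card ↥U = p) : U ≤ centralizer (U : Set G) := by
  haveI := isCyclic_of_prime_card hU
  exact fun u hu v hv => congrArg Subtype.val (mul_comm_of_cyclic (⟨v, hv⟩ : ↥U) ⟨u, hu⟩)
where
  mul_comm_of_cyclic {U : Subgroup G} [IsCyclic ↥U] (a b : ↥U) : a * b = b * a :=
    IsCyclic.isMulCommutative.is_comm.comm a b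

/-- The quotient of the normaliser by the centraliser. -/
theorem exists_quot {U : Subgroup G} (hU : Nat.card ↥U = p) :
    ∃ e, Nat.card ↥(normalizer (U : Set G)) = Nat.card ↥(centralizer (U : Set G)) * e ∧ e ∣ p - 1 ∧
      ∀ r, r.Prime → ∀ x ∈ normalizer (U : Set G), x ∉ centralizer (U : Set G) → x ^ r = 1 → r ∣ e := by
  let f := normalizerMonoidHom U
  have hcard : Nat.card (MulAut ↥U) = p - 1 := by
    haveI := isCyclic_of_prime_card hU
    rw [IsCyclic.card_mulAut, hU, Nat.totient_prime hpp.out]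
  have hker : f.ker = (centralizer (U : Set G)).subgroupOf (normalizer (U : Set G)) := normalizerMonoidHom_ker U
  refine ⟨Nat.card f.range, ?_, hcard ▸ card_subgroup_dvd_card _, fun r hr x hx hxc hxr => ?_⟩
  · rw [← f.ker.card_mul_index, index_ker, hker,
      Nat.card_congr (subgroupOfEquivOfLe (centralizer_le_normalizer _)).toEquiv]
  · haveI := Fact.mk hr
    have h1 : (⟨f ⟨x, hx⟩, ⟨x, hx⟩, rfl⟩ : f.range) ≠ 1 := fun e => hxc (by
      have : (⟨x, hx⟩ : ↥(normalizer (U : Set G))) ∈ f.ker := congrArg Subtype.val e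
      rw [hker] at this
      exact this)
    have h2 : (⟨f ⟨x, hx⟩, ⟨x, hx⟩, rfl⟩ : f.range) ^ r = 1 := Subtype.ext (by
      show f ⟨x, hx⟩ ^ r = 1
      rw [← map_pow, show (⟨x, hx⟩ : ↥(normalizer (U : Set G))) ^ r = 1 from Subtype.ext hxr, map_one])
    rw [← orderOf_eq_prime h2 h1]
    exact orderOf_dvd_natCard _

/-- A prime in the quotient, from a subgroup with a self-centralising subgroup of order `p`. -/
theorem dvd_quot_of_subgroup (h : Once G p) {B : Subgroup G} (hB : Once ↥B p) {r : ℕ} (hr : r.Prime)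
    (hrp : r ≠ p) (hcent : ∀ V : Subgroup ↥B, Nat.card ↥V = p → Nat.card ↥(centralizer (V : Set ↥B)) = p)
    (harith : ∀ e, e ∣ p - 1 → Nat.card ↥B % (p * e) = 0 → Nat.card ↥B / (p * e) % p = 1 → r ∣ e)
    {U : Subgroup G} (hU : Nat.card ↥U = p) {e : ℕ}
    (hquot : ∀ x ∈ normalizer (U : Set G), x ∉ centralizer (U : Set G) → x ^ r = 1 → r ∣ e) : r ∣ e := by
  obtain ⟨v, hv⟩ := exists_prime_orderOf_dvd_card' p hB.1
  set V := zpowers v with hVdef
  have hV : Nat.card ↥V = p := by rw [hVdef, Nat.card_zpowers, hv]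
  obtain ⟨k, hk, hk1⟩ := count hB hV
  obtain ⟨e', hN, he', -⟩ := exists_quot hV
  rw [hcent V hV] at hN
  rw [hN] at hk
  have hpos : 0 < p * e' := by rw [← hN]; exact Nat.card_pos
  have hre : r ∣ e' := harith e' he' (by rw [hk, Nat.mul_mod_left]) (by rw [hk, Nat.mul_div_cancel _ hpos, hk1])
  haveI := Fact.mk hr
  obtain ⟨x, hx⟩ := exists_prime_orderOf_dvd_card' (G := ↥(normalizer (V : Set ↥B))) r
    (hN ▸ Dvd.dvd.mul_left hre p)
  rw [← orderOf_coe] at hx
  have hxC : (x : ↥B) ∉ centralizer (V : Set ↥B) := fun hc => hrp ((Nat.prime_dvd_prime_iff_eq hr hpp.out).1 (by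
    rw [← hx, ← orderOf_mk (x : ↥B) hc, ← hcent V hV]; exact orderOf_dvd_natCard _))
  obtain ⟨g, hg⟩ := conj_of_card h (U := V.map B.subtype) (U' := U)
    (by rw [card_map_of_injective B.subtype_injective, hV]) hU
  have hxN : ((x : ↥B) : G) ∈ normalizer (V.map B.subtype : Set G) :=
    le_normalizer_map B.subtype (mem_map_of_mem _ x.2)
  refine hquot (g * ((x : ↥B) : G) * g⁻¹) ?_ ?_ ?_
  · rw [← hg, ← map_equiv_normalizer_eq (V.map B.subtype) (MulAut.conj g)]
    exact ⟨_, hxN, rfl⟩
  · intro hc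
    refine hxC (mem_centralizer_iff.2 fun w hw => Subtype.ext ?_)
    have hm : g * (w : G) * g⁻¹ ∈ U := hg ▸ ⟨(w : G), ⟨w, hw, rfl⟩, rfl⟩
    have e1 := mem_centralizer_iff.1 hc _ hm
    show (w : G) * ((x : ↥B) : G) = ((x : ↥B) : G) * w
    calc (w : G) * ((x : ↥B) : G) = g⁻¹ * (g * w * g⁻¹ * (g * ((x : ↥B) : G) * g⁻¹)) * g := by group
      _ = _ := by rw [e1]; group
  · rw [conj_pow, show (((x : ↥B) : G)) ^ r = 1 from
      (SubmonoidClass.coe_pow (x : ↥B) r).symm.trans (by rw [← hx, pow_orderOf_eq_one]; rfl)]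
    group

theorem card_conj_centralizer {g : G} {U U' : Subgroup G} (h : U.map (MulAut.conj g).toMonoidHom = U') :
    Nat.card ↥(centralizer (U' : Set G)) = Nat.card ↥(centralizer (U : Set G)) := by
  have e : (centralizer (U : Set G)).map (MulAut.conj g).toMonoidHom = centralizer (U' : Set G) := by
    rw [← h]
    ext x
    constructor
    · rintro ⟨c, hc, rfl⟩
      refine mem_centralizer_iff.2 ?_
      rintro _ ⟨a, ha, rfl⟩
      rw [← map_mul, ← map_mul, mem_centralizer_iff.1 hc a ha]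
    · intro hx
      refine ⟨(MulAut.conj g).symm x, mem_centralizer_iff.2 fun a ha => (MulAut.conj g).injective ?_,
        (MulAut.conj g).apply_symm_apply x⟩
      rw [map_mul, map_mul, MulEquiv.apply_symm_apply]
      exact mem_centralizer_iff.1 hx _ ⟨a, ha, rfl⟩
  rw [← e, card_map_of_injective (MulAut.conj g).injective]

theorem card_conj_normalizer {g : G} {U U' : Subgroup G} (h : U.map (MulAut.conj g).toMonoidHom = U') :
    Nat.card ↥(normalizer (U' : Set G)) = Nat.card ↥(normalizer (U : Set G)) := by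
  rw [← h, ← map_equiv_normalizer_eq U (MulAut.conj g), card_map_of_injective (MulAut.conj g).injective]

variable {q : ℕ} [hqq : Fact q.Prime] {U₀ : Subgroup G}

/-- A subgroup of order `q` inside the centraliser of `U`. -/
theorem exists_inside {U : Subgroup G} (hd : q ∣ Nat.card ↥(centralizer (U : Set G))) :
    ∃ Q : Subgroup G, Nat.card ↥Q = q ∧ Q ≤ centralizer (U : Set G) := by
  obtain ⟨y, hy⟩ := exists_prime_orderOf_dvd_card' q hd
  exact ⟨zpowers (y : G), by rw [Nat.card_zpowers, orderOf_coe, hy], zpowers_le.2 y.2⟩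

/-- Commuting is symmetric. -/
theorem dvd_cent_symm (hq : Once G q) {U W : Subgroup G} (hU : Nat.card ↥U = p) (hW : Nat.card ↥W = q)
    (hd : q ∣ Nat.card ↥(centralizer (U : Set G))) : p ∣ Nat.card ↥(centralizer (W : Set G)) := by
  obtain ⟨Q, hQ, hle⟩ := exists_inside hd
  obtain ⟨g, hg⟩ := conj_of_card hq hW hQ
  rw [← card_conj_centralizer hg]
  exact hU ▸ card_dvd_of_le (le_centralizer_iff.1 hle)

/-- The subgroup of order `q` of the centraliser of `U` is normalised by `N(U)`, if it is the only one. -/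
theorem normalizer_le (hq : ¬ q ^ 2 ∣ Nat.card ↥(centralizer (U₀ : Set G))) (hpq : p ≠ q) (hU : Nat.card ↥U₀ = p)
    {Q : Subgroup G} (hQ : Nat.card ↥Q = q) (hle : Q ≤ centralizer (U₀ : Set G)) {m : ℕ}
    (hC : Nat.card ↥(centralizer (U₀ : Set G)) = p * m) (hm : q ∣ m)
    (huniq : ∀ d, d ∣ m / q → d % q = 1 → d = 1) :
    normalizer (U₀ : Set G) ≤ normalizer (Q : Set G) := by
  rename' U₀ => U
  set C := centralizer (U : Set G) with hCdef
  have hQ' : Nat.card ↥(Q.subgroupOf C) = q := by rw [Nat.card_congr (subgroupOfEquivOfLe hle).toEquiv, hQ]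
  have honce : Once ↥C q := ⟨hC ▸ Dvd.dvd.mul_left hm p, hq⟩
  obtain ⟨k, hk, hk1⟩ := count honce hQ'
  have hpd : p ∣ Nat.card ↥(normalizer (Q.subgroupOf C : Set ↥C)) := by
    rw [← hU, ← Nat.card_congr (subgroupOfEquivOfLe (le_centralizer_self hU : U ≤ C)).toEquiv]
    refine card_dvd_of_le fun u hu => centralizer_le_normalizer _ (mem_centralizer_iff.2 fun a ha => Subtype.ext ?_)
    show (a : G) * u = u * a
    exact (mem_centralizer_iff.1 a.2 _ (mem_subgroupOf.1 hu)).symm
  have hqd : q ∣ Nat.card ↥(normalizer (Q.subgroupOf C : Set ↥C)) := hQ' ▸ card_dvd_of_le le_normalizer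
  obtain ⟨j, hj⟩ := (Nat.coprime_primes hpp.out hqq.out).2 hpq |>.mul_dvd_of_dvd_of_dvd hpd hqd
  have hk' : k = 1 := by
    refine huniq k ⟨j, ?_⟩ hk1
    obtain ⟨m', rfl⟩ := hm
    rw [Nat.mul_div_cancel_left _ hqq.out.pos]
    rw [hC, hj] at hk
    refine Nat.eq_of_mul_eq_mul_left (Nat.mul_pos hpp.out.pos hqq.out.pos) ?_
    rw [mul_assoc p q m', hk]
    ring
  have htop : normalizer (Q.subgroupOf C : Set ↥C) = ⊤ := by
    refine eq_top_of_card_eq _ ?_
    rw [hk', one_mul] at hk
    exact hk.symm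
  intro n hn
  have hnC : ∀ c ∈ C, n * c * n⁻¹ ∈ C := fun c hc => mem_centralizer_iff.2 fun u hu => by
    have hu' : n⁻¹ * u * n ∈ U := by simpa using (mem_normalizer_iff.1 (inv_mem hn) u).1 hu
    have e := mem_centralizer_iff.1 hc _ hu'
    calc u * (n * c * n⁻¹) = n * (n⁻¹ * u * n * c) * n⁻¹ := by group
      _ = _ := by rw [e]; group
  obtain ⟨T, hT⟩ := exists_sylow honce hQ'
  haveI hnorm : (T : Subgroup ↥C).Normal := by rw [hT]; exact normalizer_eq_top_iff.1 htop
  haveI := Sylow.unique_of_normal T hnorm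
  -- the image of `Q` is again of order `q` inside `C`
  set Q' := Q.map (MulAut.conj n).toMonoidHom with hQ'def
  have hle' : Q' ≤ C := by
    rintro _ ⟨c, hc, rfl⟩
    exact hnC c (hle hc)
  obtain ⟨T', hT'⟩ := exists_sylow honce (U := Q'.subgroupOf C) (by
    rw [Nat.card_congr (subgroupOfEquivOfLe hle').toEquiv, hQ'def, card_map_of_injective (MulAut.conj n).injective, hQ])
  have hsame : Q'.subgroupOf C = Q.subgroupOf C := by rw [← hT', ← hT, Subsingleton.elim T' T]
  have heq : Q' = Q := by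
    rw [← subgroupOf_map_subtype Q' C |>.trans (inf_eq_left.2 hle'), hsame,
      subgroupOf_map_subtype Q C |>.trans (inf_eq_left.2 hle)]
  refine mem_normalizer_iff.2 fun a => ⟨fun ha => ?_, fun ha => ?_⟩
  · rw [← heq]; exact ⟨a, ha, rfl⟩
  · rw [← heq] at ha
    obtain ⟨b, hb, e⟩ := ha
    exact (MulAut.conj n).injective e ▸ hb

/-- With one Sylow subgroup of order `q` in the centraliser of `U`, the normalisers divide. -/
theorem normalizer_dvd (hq : Once G q) (hpq : p ≠ q) {U W : Subgroup G} (hU : Nat.card ↥U = p)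
    (hW : Nat.card ↥W = q) {m : ℕ} (hC : Nat.card ↥(centralizer (U : Set G)) = p * m) (hm : q ∣ m)
    (huniq : ∀ d, d ∣ m / q → d % q = 1 → d = 1) :
    Nat.card ↥(normalizer (U : Set G)) ∣ Nat.card ↥(normalizer (W : Set G)) := by
  obtain ⟨Q, hQ, hle⟩ := exists_inside (U := U) (hC ▸ Dvd.dvd.mul_left hm p)
  obtain ⟨g, hg⟩ := conj_of_card hq hW hQ
  rw [← card_conj_normalizer hg]
  exact card_dvd_of_le (normalizer_le (fun h => hq.2 (h.trans (card_subgroup_dvd_card _))) hpq hU hQ hle hC hm huniq)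

end Cfsg.Agent.J4Type.LargePrimes
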