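import Cfsg.Agent.Lib.J4Type.PentadFinal
import Cfsg.Agent.Lib.SingleBlock.M24
import Cfsg.Agent.Lib.J4Type.LargePrimes.Sylow

/-!
Elements of order 11 in a group of Janko-four type: 2- and 3-parts of their centralisers (helper86).

* `image_le_two` : a 2-group of M24 centralising an element of order 11 has at most two elements
* `card_two_z`, `card_two_t` : 2-groups commuting with an element of order 11 inside `C(z)` and `C(t)`
* `card_two_le` : a 2-subgroup of the centraliser of an element of order 11 has order at most 16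
* `not_nine` : no subgroup of order 9 centralises such an element commuting with `P`
-/

set_option autoImplicit false
set_option linter.unusedSectionVars false

namespace Cfsg.Agent.J4Type.LargePrimes

open Cfsg Cfsg.Agent.Golay Subgroup MulAction
open Cfsg.Agent.J4Type.Pentad (PCtx NV pr pr_eq_one orderOf_κ centralizer_zpowers V_le)

theorem cent_eleven {σ : ↥M24} (hσ : orderOf σ = 11) :
    Nat.card ↥(centralizer ({σ} : Set ↥M24)) = 11 ∨ Nat.card ↥(centralizer ({σ} : Set ↥M24)) = 22 := by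
  haveI : Fact (Nat.Prime 11) := ⟨by norm_num⟩
  have h22 : Nat.card ↥(centralizer ({σ} : Set ↥M24)) ≤ 22 := by
    refine (SingleBlock.cent_le_support hσ (by norm_num)).trans ?_
    rw [SingleBlock.card_support_eq, SingleBlock.fixed_eleven σ.2 (by rw [Subgroup.orderOf_coe, hσ])]
  obtain ⟨k, hk⟩ : 11 ∣ Nat.card ↥(centralizer ({σ} : Set ↥M24)) := by
    rw [← hσ, ← orderOf_mk σ (mem_centralizer_singleton_iff.2 rfl)]
    exact orderOf_dvd_natCard _
  have hpos : 0 < Nat.card ↥(centralizer ({σ} : Set ↥M24)) := Nat.card_pos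
  omega

theorem cent_twentythree {σ : ↥M24} (hσ : orderOf σ = 23) : Nat.card ↥(centralizer ({σ} : Set ↥M24)) = 23 := by
  haveI : Fact (Nat.Prime 23) := ⟨by norm_num⟩
  have h : Nat.card ↥(centralizer ({σ} : Set ↥M24)) ≤ 23 := by
    refine (SingleBlock.cent_le_support hσ (by norm_num)).trans ?_
    rw [SingleBlock.card_support_eq, SingleBlock.fixed_twentythree σ.2 (by rw [Subgroup.orderOf_coe, hσ])]
  obtain ⟨k, hk⟩ : 23 ∣ Nat.card ↥(centralizer ({σ} : Set ↥M24)) := by
    rw [← hσ, ← orderOf_mk σ (mem_centralizer_singleton_iff.2 rfl)]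
    exact orderOf_dvd_natCard _
  have hpos : 0 < Nat.card ↥(centralizer ({σ} : Set ↥M24)) := Nat.card_pos
  omega

theorem image_le_two {T : Subgroup ↥M24} (hT : IsPGroup 2 ↥T) {σ : ↥M24} (hσ : orderOf σ = 11)
    (hc : ∀ t ∈ T, t * σ = σ * t) : Nat.card ↥T ≤ 2 := by
  haveI : Fact (Nat.Prime 2) := ⟨Nat.prime_two⟩
  obtain ⟨k, hk⟩ := IsPGroup.iff_card.1 hT
  have hd : 2 ^ k ∣ 22 := by
    rw [← hk]
    refine (card_dvd_of_le (fun t ht => mem_centralizer_singleton_iff.2 (hc t ht) :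
      T ≤ centralizer ({σ} : Set ↥M24))).trans ?_
    rcases cent_eleven hσ with h | h <;> rw [h]
    norm_num
  have hk1 : k ≤ 1 := by
    by_contra hlt
    exact absurd ((pow_dvd_pow 2 (show 2 ≤ k by omega)).trans hd) (by norm_num)
  rw [hk]
  interval_cases k <;> norm_num

variable {G : Type*} [Group G] [Finite G]

/-- Fixed points of an element of order eleven on a normalised subgroup. -/
theorem card_fix_mod (X : Subgroup G) {y : G} (hy : orderOf y = 11) (hn : y ∈ normalizer (X : Set G)) :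
    Nat.card ↥X % 11 = Nat.card ↥(X ⊓ centralizer ({y} : Set G)) % 11 := by
  classical
  haveI : Fact (Nat.Prime 11) := ⟨by norm_num⟩
  have hH : zpowers y ≤ normalizer (X : Set G) := zpowers_le.2 hn
  letI : MulAction ↥(zpowers y) ↥X :=
    { smul := fun h x => ⟨(h : G) * x * (h : G)⁻¹, (mem_normalizer_iff.1 (hH h.2) _).1 x.2⟩
      one_smul := fun x => Subtype.ext (show (1 : G) * x * (1 : G)⁻¹ = x by group)
      mul_smul := fun g h x => Subtype.ext
        (show (g : G) * h * x * ((g : G) * h)⁻¹ = g * (h * x * (h : G)⁻¹) * (g : G)⁻¹ by group) }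
  have hp : IsPGroup 11 ↥(zpowers y) := IsPGroup.of_card (n := 1) (by rw [Nat.card_zpowers, hy, pow_one])
  have h := hp.card_modEq_card_fixedPoints ↥X
  unfold Nat.ModEq at h
  rw [h]
  refine congrArg (· % 11) (Nat.card_congr
    { toFun := fun x => ⟨x.1.1, Subgroup.mem_inf.2 ⟨x.1.2, mem_centralizer_singleton_iff.2
        (mul_inv_eq_iff_eq_mul.1 (congrArg Subtype.val (x.2 ⟨y, mem_zpowers y⟩) : y * x.1.1 * y⁻¹ = x.1.1)).symm⟩⟩
      invFun := fun x => ⟨⟨x.1, (Subgroup.mem_inf.1 x.2).1⟩, fun g => Subtype.ext ?_⟩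
      left_inv := fun _ => rfl
      right_inv := fun _ => rfl })
  show (g : G) * x.1 * (g : G)⁻¹ = x.1
  obtain ⟨k, hk⟩ := g.2
  have hc : Commute x.1 (g : G) := by
    rw [← hk]
    exact (show Commute x.1 y from mem_centralizer_singleton_iff.1 (Subgroup.mem_inf.1 x.2).2).zpow_right k
  rw [← hc.eq, mul_inv_cancel_right]

variable {z : G} {P : Subgroup G} (C : PCtx z P)

/-- The projection of `C(z)` into M24. -/
noncomputable def toM24 (S : Setting z P) : ↥(Cz z) →* ↥M24 :=
  S.κ.codRestrict M24 fun h => (S.κ_mem h).1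

theorem toM24_eq_one (S : Setting z P) {h : ↥(Cz z)} : toM24 S h = 1 ↔ S.κ h = 1 := by
  constructor
  · exact fun e => congrArg Subtype.val e
  · exact fun e => Subtype.ext e

theorem orderOf_toM24 (S : Setting z P) {y : G} (hy : y ∈ Cz z) (ho : orderOf y = 11) :
    orderOf (toM24 S ⟨y, hy⟩) = 11 := by
  haveI : Fact (Nat.Prime 11) := ⟨by norm_num⟩
  rw [← Subgroup.orderOf_coe]
  exact orderOf_κ S (s := ⟨y, hy⟩) (by norm_num) ho

/-- The fixed points on `E`. -/
theorem card_E_cent (S : Setting z P) {y : G} (hy : y ∈ Cz z) (ho : orderOf y = 11) :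
    Nat.card ↥(Ez z ⊓ centralizer ({y} : Set G)) = 8 := by
  haveI : Fact (Nat.Prime 2) := ⟨Nat.prime_two⟩
  have hn : y ∈ normalizer (Ez z : Set G) := mem_normalizer_iff.2 fun e => ⟨fun he => conj_mem_Ez hy he,
    fun he => by
      have h := conj_mem_Ez (inv_mem hy) he
      rwa [inv_inv, show y⁻¹ * (y * e * y⁻¹) * y = e by group] at h⟩
  have hmod := card_fix_mod (Ez z) ho hn
  obtain ⟨k, hk, hkc⟩ := (Nat.dvd_prime_pow Nat.prime_two).1 (S.card_E ▸ card_dvd_of_le
    (inf_le_left : Ez z ⊓ centralizer ({y} : Set G) ≤ Ez z))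
  rw [hkc, S.card_E] at hmod
  rcases (show k = 3 ∨ k = 13 by interval_cases k <;> first | (left; rfl) | (right; rfl) | (norm_num at hmod)) with
    rfl | rfl
  · rw [hkc]; norm_num
  exfalso
  have heq := eq_of_le_of_card_ge (inf_le_left : Ez z ⊓ centralizer ({y} : Set G) ≤ Ez z) (by rw [hkc, S.card_E])
  have hyE : y ∈ Ez z := S.cent_E y hy fun e he => by
    rw [← heq] at he
    exact mem_centralizer_singleton_iff.1 (Subgroup.mem_inf.1 he).2
  have hd : orderOf y ∣ 2 ^ 13 := by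
    rw [← S.card_E, ← orderOf_mk y hyE]
    exact orderOf_dvd_natCard _
  rw [ho] at hd
  norm_num at hd

/-- A kernel element of 2-power order lies in `E`. -/
theorem mem_Ez_of_ker (S : Setting z P) {x : ↥(Cz z)} (hx : S.κ x = 1) {n : ℕ} (hn : (x : G) ^ (2 ^ n) = 1) :
    (x : G) ∈ Ez z := by
  obtain ⟨e, he, i, hxe⟩ := (S.κ_ker x).1 hx
  have key : ∀ k : ℕ, ∃ e' ∈ Ez z, (e * S.gen ^ i) ^ k = e' * S.gen ^ (i * k) := by
    intro k
    induction k with
    | zero => exact ⟨1, one_mem _, by simp⟩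
    | succ k ih =>
      obtain ⟨e', he', ih⟩ := ih
      refine ⟨e' * (S.gen ^ (i * k) * e * (S.gen ^ (i * k))⁻¹),
        mul_mem he' (conj_mem_Ez (pow_mem S.gen_mem _) he), ?_⟩
      rw [pow_succ, ih, Nat.mul_succ, pow_add]
      group
  obtain ⟨e', he', hk⟩ := key (2 ^ n)
  rw [← hxe, hn] at hk
  have hmem : S.gen ^ (i * 2 ^ n) ∈ Ez z := by rw [← inv_eq_of_mul_eq_one_right hk.symm]; exact inv_mem he'
  have h1 : orderOf (S.gen ^ (i * 2 ^ n)) = 1 := by
    refine Nat.eq_one_of_dvd_coprimes (show Nat.Coprime 3 (2 ^ 13) by norm_num) ?_ ?_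
    · exact S.gen_ord ▸ orderOf_pow_dvd _
    · rw [← S.card_E, ← orderOf_mk _ hmem]
      exact orderOf_dvd_natCard _
  rw [orderOf_eq_one_iff, ← orderOf_dvd_iff_pow_eq_one, S.gen_ord] at h1
  obtain ⟨j, rfl⟩ := ((show Nat.Coprime 3 (2 ^ n) from Nat.Coprime.pow_right n (by norm_num)).dvd_of_dvd_mul_right h1)
  rw [hxe, pow_mul, S.gen_cube, one_pow, mul_one]
  exact he

/-- Inside `C(z)`. -/
theorem card_two_z (S : Setting z P) {T : Subgroup G} (hT : IsPGroup 2 ↥T) {y : G} (hy : y ∈ Cz z)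
    (ho : orderOf y = 11) (hTz : T ≤ Cz z) (hc : ∀ t ∈ T, t * y = y * t) : Nat.card ↥T ≤ 16 := by
  classical
  let f : ↥T →* ↥M24 := (toM24 S).comp (inclusion hTz)
  have hrange : Nat.card f.range ≤ 2 := by
    refine image_le_two (hT.of_surjective f.rangeRestrict f.rangeRestrict_surjective) (orderOf_toM24 S hy ho) ?_
    rintro _ ⟨t, rfl⟩
    show toM24 S (inclusion hTz t) * toM24 S ⟨y, hy⟩ = toM24 S ⟨y, hy⟩ * toM24 S (inclusion hTz t)
    rw [← map_mul, ← map_mul]
    exact congrArg (toM24 S) (Subtype.ext (hc t t.2))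
  have hker : Nat.card f.ker ≤ 8 := by
    rw [← card_E_cent S hy ho]
    refine Nat.card_le_card_of_injective (fun t : f.ker => (⟨((t : ↥T) : G), Subgroup.mem_inf.2 ⟨?_,
      mem_centralizer_singleton_iff.2 (hc _ (t : ↥T).2)⟩⟩ : ↥(Ez z ⊓ centralizer ({y} : Set G)))) ?_
    · obtain ⟨n, hn⟩ := hT (t : ↥T)
      exact mem_Ez_of_ker S ((toM24_eq_one S).1 (MonoidHom.mem_ker.1 t.2)) (n := n)
        (by rw [show ((inclusion hTz (t : ↥T) : ↥(Cz z)) : G) = ((t : ↥T) : G) from rfl,
          ← SubmonoidClass.coe_pow, hn]; rfl)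
    · exact fun a b h => Subtype.ext (Subtype.ext (congrArg (fun v : ↥(Ez z ⊓ centralizer ({y} : Set G)) => (v : G)) h))
  rw [← f.ker.card_mul_index, index_ker]
  exact (Nat.mul_le_mul hker hrange).trans (by norm_num)

/-- Inside `C(t)`. -/
theorem card_two_t {T : Subgroup G} (hT : IsPGroup 2 ↥T) {y : G} (hy : y ∈ centralizer ({C.D.t} : Set G))
    (ho : orderOf y = 11) (hTt : T ≤ centralizer ({C.D.t} : Set G)) (hc : ∀ t ∈ T, t * y = y * t) :
    Nat.card ↥T ≤ 16 := by
  classical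
  haveI : Fact (Nat.Prime 11) := ⟨by norm_num⟩
  haveI : Fact (Nat.Prime 2) := ⟨Nat.prime_two⟩
  have hyN : y ∈ NV C.D := C.cent_t hy
  have hyV : y ∉ C.D.V := fun h => by
    have hd : orderOf y ∣ 2 ^ 11 := by
      rw [← C.D.card, ← orderOf_mk y h]
      exact orderOf_dvd_natCard _
    rw [ho] at hd
    norm_num at hd
  have hpry : orderOf (pr C.D ⟨y, hyN⟩) = 11 := by
    refine orderOf_eq_prime ?_ fun h => hyV ((pr_eq_one C.D).1 h)
    rw [← map_pow, show (⟨y, hyN⟩ : ↥(NV C.D)) ^ 11 = 1 from Subtype.ext (ho ▸ pow_orderOf_eq_one y), map_one]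
  let f : ↥T →* ↥M24 := (pr C.D).comp (inclusion (hTt.trans C.cent_t))
  have hrange : Nat.card f.range ≤ 2 := by
    refine image_le_two (hT.of_surjective f.rangeRestrict f.rangeRestrict_surjective) hpry ?_
    rintro _ ⟨t, rfl⟩
    show pr C.D (inclusion _ t) * pr C.D ⟨y, hyN⟩ = pr C.D ⟨y, hyN⟩ * pr C.D (inclusion _ t)
    rw [← map_mul, ← map_mul]
    exact congrArg (pr C.D) (Subtype.ext (hc t t.2))
  have hfix : Nat.card ↥(C.D.V ⊓ centralizer ({y} : Set G)) ≤ 8 := by
    have hmod := card_fix_mod C.D.V ho hyN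
    obtain ⟨k, hk, hkc⟩ := (Nat.dvd_prime_pow Nat.prime_two).1 (C.D.card ▸ card_dvd_of_le
      (inf_le_left : C.D.V ⊓ centralizer ({y} : Set G) ≤ C.D.V))
    rw [hkc, C.D.card] at hmod
    rcases (show k = 1 ∨ k = 11 by interval_cases k <;> first | (left; rfl) | (right; rfl) | (norm_num at hmod)) with
      rfl | rfl
    · rw [hkc]; norm_num
    exfalso
    have heq := eq_of_le_of_card_ge (inf_le_left : C.D.V ⊓ centralizer ({y} : Set G) ≤ C.D.V)
      (by rw [hkc, C.D.card])
    refine hyV (C.D.cent (mem_centralizer_iff.2 fun v hv => ?_))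
    rw [← heq] at hv
    exact mem_centralizer_singleton_iff.1 (Subgroup.mem_inf.1 hv).2
  have hker : Nat.card f.ker ≤ 8 := by
    refine le_trans ?_ hfix
    refine Nat.card_le_card_of_injective (fun t : f.ker => (⟨((t : ↥T) : G), Subgroup.mem_inf.2 ⟨?_,
      mem_centralizer_singleton_iff.2 (hc _ (t : ↥T).2)⟩⟩ : ↥(C.D.V ⊓ centralizer ({y} : Set G)))) ?_
    · exact (pr_eq_one C.D).1 (MonoidHom.mem_ker.1 t.2)
    · exact fun a b h => Subtype.ext (Subtype.ext
        (congrArg (fun v : ↥(C.D.V ⊓ centralizer ({y} : Set G)) => (v : G)) h))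
  rw [← f.ker.card_mul_index, index_ker]
  exact (Nat.mul_le_mul hker hrange).trans (by norm_num)

/-- The 2-subgroups centralising an element of order 11. -/
theorem card_two_le (hcls : ∀ i : G, orderOf i = 2 → IsConj z i ∨ IsConj C.D.t i) {T : Subgroup G}
    (hT : IsPGroup 2 ↥T) {y : G} (ho : orderOf y = 11) (hc : ∀ t ∈ T, t * y = y * t) : Nat.card ↥T ≤ 16 := by
  classical
  haveI : Fact (Nat.Prime 2) := ⟨Nat.prime_two⟩
  rcases subsingleton_or_nontrivial ↥T with h1 | hnt
  · rw [Nat.card_of_subsingleton (1 : ↥T)]; norm_num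
  haveI := hT.center_nontrivial
  obtain ⟨i, hi⟩ := exists_prime_orderOf_dvd_card' (G := ↥(center ↥T)) 2 (by
    obtain ⟨n, hn0, hn⟩ := (hT.to_subgroup (center ↥T)).nontrivial_iff_card.1 inferInstance
    rw [hn]; exact dvd_pow_self 2 (by omega))
  rw [← orderOf_coe, ← orderOf_coe] at hi
  set j : G := ((i : ↥T) : G) with hjdef
  have hjT : ∀ t ∈ T, t * j = j * t := fun t ht => congrArg Subtype.val (mem_center_iff.1 i.2 ⟨t, ht⟩)
  have hjy : j * y = y * j := hc j (i : ↥T).2
  have key : ∀ (g c : G), g * c * g⁻¹ = j → ∀ a, a * j = j * a →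
      g⁻¹ * a * g ∈ centralizer ({c} : Set G) := by
    intro g c e a ha
    refine mem_centralizer_singleton_iff.2 ?_
    rw [← e] at ha
    calc g⁻¹ * a * g * c = g⁻¹ * (a * (g * c * g⁻¹)) * g := by group
      _ = _ := by rw [ha]; group
  have fin : ∀ (g c : G), g * c * g⁻¹ = j →
      (∀ (T' : Subgroup G) (y' : G), IsPGroup 2 ↥T' → y' ∈ centralizer ({c} : Set G) → orderOf y' = 11 →
        T' ≤ centralizer ({c} : Set G) → (∀ t ∈ T', t * y' = y' * t) → Nat.card ↥T' ≤ 16) →
      Nat.card ↥T ≤ 16 := by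
    intro g c e hbound
    have h := hbound (T.map (MulAut.conj g⁻¹).toMonoidHom) (g⁻¹ * y * g) (hT.map _)
      (key g c e y hjy.symm) (by
        have := orderOf_injective (MulAut.conj g⁻¹).toMonoidHom (MulAut.conj g⁻¹).injective y
        rw [show (MulAut.conj g⁻¹).toMonoidHom y = g⁻¹ * y * g by simp] at this
        rw [this, ho]) ?_ ?_
    · rwa [card_map_of_injective (MulAut.conj g⁻¹).injective] at h
    · rintro _ ⟨t, ht, rfl⟩
      rw [show (MulAut.conj g⁻¹).toMonoidHom t = g⁻¹ * t * g by simp]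
      exact key g c e t (hjT t ht)
    · rintro _ ⟨t, ht, rfl⟩
      rw [show (MulAut.conj g⁻¹).toMonoidHom t = g⁻¹ * t * g by simp,
        show g⁻¹ * t * g * (g⁻¹ * y * g) = g⁻¹ * (t * y) * g by group, hc t ht]
      group
  rcases hcls j hi with h | h
  · obtain ⟨g, hg⟩ := isConj_iff.1 h
    exact fin g z hg fun T' y' hT' hy' ho' hle hc' => card_two_z C.S hT' hy' ho' hle hc'
  · obtain ⟨g, hg⟩ := isConj_iff.1 h
    exact fin g C.D.t hg fun T' y' hT' hy' ho' hle hc' => card_two_t C hT' hy' ho' hle hc'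

include C in
/-- An element of order 11 commuting with `P` lies in `C(z)`. -/
theorem mem_Cz_of_comm {a : G} (ha : a * C.S.gen = C.S.gen * a) : a ∈ Cz z := by
  refine C.norm_P (centralizer_le_normalizer _ ?_)
  show a ∈ centralizer (P : Set G)
  rw [← C.S.gen_zpowers, centralizer_zpowers]
  exact mem_centralizer_singleton_iff.2 ha

include C in
/-- No subgroup of order 9 centralises an element of order 11. -/
theorem not_nine {R : Subgroup G} (hR : Nat.card ↥R = 9) {y : G} (ho : orderOf y = 11)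
    (hc : ∀ r ∈ R, r * y = y * r) : False := by
  classical
  haveI : Fact (Nat.Prime 3) := ⟨by norm_num⟩
  obtain ⟨w, hw⟩ := exists_prime_orderOf_dvd_card' (G := ↥R) 3 (by rw [hR]; norm_num)
  have hcomm : ∀ a b : ↥R, a * b = b * a := IsPGroup.commutative_of_card_eq_prime_sq (p := 3) (by rw [hR]; norm_num)
  rw [← orderOf_coe] at hw
  obtain ⟨g, hg⟩ := isConj_iff.1 (C.three (w : G) C.S.gen hw C.S.gen_ord)
  set φ := (MulAut.conj g).toMonoidHom with hφ
  have hφw : φ w = C.S.gen := hg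
  have hRg : ∀ r ∈ R.map φ, r * C.S.gen = C.S.gen * r := by
    rintro _ ⟨r, hr, rfl⟩
    rw [← hφw, ← map_mul, ← map_mul]
    exact congrArg φ (congrArg Subtype.val (hcomm ⟨r, hr⟩ w))
  have hy' : φ y * C.S.gen = C.S.gen * φ y := by
    rw [← hφw, ← map_mul, ← map_mul, hc w w.2]
  have hyz : φ y ∈ Cz z := mem_Cz_of_comm C hy'
  have ho' : orderOf (φ y) = 11 := (orderOf_injective φ (MulAut.conj g).injective y).trans ho
  have hRz : R.map φ ≤ Cz z := fun r hr => mem_Cz_of_comm C (hRg r hr)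
  have hR' : Nat.card ↥(R.map φ) = 9 := by rw [card_map_of_injective (MulAut.conj g).injective, hR]
  have hsub : R.map φ ≤ zpowers C.S.gen := by
    intro r hr
    have hcr : r * φ y = φ y * r := by
      obtain ⟨r0, hr0, rfl⟩ := hr
      rw [← map_mul, ← map_mul, hc r0 hr0]
    have h9 : r ^ 9 = 1 := by
      rw [← hR']
      exact congrArg Subtype.val (pow_card_eq_one' (x := (⟨r, hr⟩ : ↥(R.map φ))))
    have hk : toM24 C.S ⟨r, hRz hr⟩ = 1 := by
      rw [← orderOf_eq_one_iff]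
      have hd : orderOf (toM24 C.S ⟨r, hRz hr⟩) ∣
          Nat.card ↥(centralizer ({toM24 C.S ⟨φ y, hyz⟩} : Set ↥M24)) := by
        rw [← orderOf_mk (toM24 C.S ⟨r, hRz hr⟩) (mem_centralizer_singleton_iff.2
          (show toM24 C.S ⟨r, hRz hr⟩ * toM24 C.S ⟨φ y, hyz⟩ = toM24 C.S ⟨φ y, hyz⟩ * toM24 C.S ⟨r, hRz hr⟩ by
            rw [← map_mul, ← map_mul]; exact congrArg (toM24 C.S) (Subtype.ext hcr)))]
        exact orderOf_dvd_natCard _
      have hd9 : orderOf (toM24 C.S ⟨r, hRz hr⟩) ∣ 9 := orderOf_dvd_of_pow_eq_one (by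
        rw [← map_pow, show (⟨r, hRz hr⟩ : ↥(Cz z)) ^ 9 = 1 from Subtype.ext h9, map_one])
      rcases cent_eleven (orderOf_toM24 C.S hyz ho') with h | h <;> rw [h] at hd
      · exact Nat.eq_one_of_dvd_coprimes (by norm_num : Nat.Coprime 9 11) hd9 hd
      · exact Nat.eq_one_of_dvd_coprimes (by norm_num : Nat.Coprime 9 22) hd9 hd
    obtain ⟨e, he, n, hn⟩ := (C.S.κ_ker _).1 ((toM24_eq_one C.S).1 hk)
    change r = e * C.S.gen ^ n at hn
    have hec : e * C.S.gen = C.S.gen * e := by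
      rw [eq_mul_inv_of_mul_eq hn.symm]
      exact ((show Commute r C.S.gen from hRg r hr).mul_left ((Commute.pow_self C.S.gen n).inv_left)).eq
    rcases C.S.fix e he hec with rfl | rfl
    · rw [hn, one_mul]; exact pow_mem (mem_zpowers _) n
    · exfalso
      rw [hn, (show Commute e (C.S.gen ^ n) from (show Commute e C.S.gen from hec).pow_right n).mul_pow,
        ← pow_mul, mul_comm n 9, pow_mul, show (9 : ℕ) = 3 * 3 by norm_num, pow_mul C.S.gen, C.S.gen_cube,
        one_pow, one_pow, mul_one, show (3 * 3 : ℕ) = 2 * 4 + 1 by norm_num, pow_succ, pow_mul, pow_two,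
        C.S.z_sq, one_pow, one_mul] at h9
      exact C.S.z_ne h9
  have := card_le_of_le hsub
  rw [Nat.card_zpowers, C.S.gen_ord, hR'] at this
  omega

end Cfsg.Agent.J4Type.LargePrimes
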